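/-
Certificate data of a coset enumeration.
-/
import Cfsg.Agent.Lib.CosetEnum.Basic

set_option autoImplicit false
set_option maxRecDepth 1000000

namespace CfsgLib.CosetEnum.Fi23E

open CfsgLib.CosetEnum

/-- The packed facts. -/
def facts : Tree :=
  (.node (.leaf 0x800008300008000081000080000620000700007400007000071000060000700000700005300006000064000040000610000600003300005000054000050000520000500005100005000030000040000440000400004200004000040000040000230000300003400003000032000030000210000200002400002000020000020000120000100001300001000011000010000100000100000400000000003000000000020000000000100000000000) (.leaf 0xf0000f40000f0000f20000f0000f10000f0000f00000f0000e30000e0000e40000e0000e10000e0000e00000e0000d20000d0000d30000c0000d10000d0000d00000d0000b40000c0000c30000c0000c20000a0000c00000c0000940000b0000b30000b0000b20000b0000b00000b0000910000a0000a30000a0000a20000a0000a10000a000084000090000930000800009000009000072))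

/-- The parents of the cosets. -/
def par : Tree :=
  (.leaf 0xe30000d20000b4000094000091000084000072000062000053000033000030000023000021000012000004000000)

/-- The packed words. -/
def words : Tree :=
  (.node (.node (.node (.node (.node (.leaf 0x1) (.leaf 0x33002)) (.node (.leaf 0x4040004) (.leaf 0x121212006))) (.node (.node (.leaf 0x2) (.leaf 0x10101006)) (.node (.leaf 0x4141004) (.leaf 0x242424006)))) (.node (.node (.node (.leaf 0x2001) (.leaf 0x44002)) (.node (.leaf 0x212121006) (.leaf 0x1414004))) (.node (.node (.leaf 0x2020004) (.leaf 0x303004)) (.leaf 0x323232006)))) (.node (.node (.node (.node (.leaf 0x1001) (.leaf 0x4343004)) (.node (.leaf 0x11002) (.leaf 0x1313004))) (.node (.node (.leaf 0x101010006) (.leaf 0x202004)) (.node (.leaf 0x22002) (.leaf 0x3434004)))) (.node (.node (.node (.leaf 0x3001) (.leaf 0x0)) (.node (.leaf 0x3131004) (.leaf 0x232323006))) (.node (.node (.leaf 0x3030004) (.leaf 0x404004)) (.leaf 0x424242006)))))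

/-- The certificate. -/
def data : Data := ⟨5, facts, par, words, 4, 30⟩

/-- Representatives. -/
def rep : Tree :=
  (.leaf 0xf0000e0000d0000c0000b0000a00009000080000700006000050000400003000020000100000)

/-- The rows of the table. -/
def tab : Tree :=
  (.node (.leaf 0x7000050000900007000060000600003000080000400007000050000700005000050000300004000020000400006000040000300006000030000200005000020000400001000030000200000000010000200001000010000100000000000000000000) (.leaf 0xf0000e0000f0000f0000f0000e0000f0000d0000e0000e0000b0000d0000e0000c0000d000090000c0000c0000d0000a0000d0000b0000b000090000b000080000a0000a0000a0000c0000c00009000070000b000080000a00008000060000800009))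

/-- The table. -/
def table : Table := ⟨16, rep, tab, .leaf 0⟩

/-- The relators. -/
def rels : List (List ℕ) := [[0, 0], [0, 1, 0, 1, 0, 1], [0, 2, 0, 2], [0, 3, 0, 3], [0, 4, 0, 4], [1, 1], [1, 2, 1, 2, 1, 2], [1, 3, 1, 3], [1, 4, 1, 4], [2, 2], [2, 3, 2, 3, 2, 3], [2, 4, 2, 4, 2, 4], [3, 3], [3, 4, 3, 4], [4, 4]]

/-- The words generating the subgroup. -/
def hw : List (List ℕ) := [[0], [1], [2], [3]]

/-- The origin of the words. -/
def rots : List (ℕ × ℕ) := [(0, 0), (1, 0), (2, 0), (3, 0), (0, 0), (1, 0), (2, 0), (3, 0), (4, 0), (5, 0), (6, 0), (7, 0), (8, 0), (9, 0), (10, 0), (11, 0), (12, 0), (13, 0), (14, 0), (16, 0), (1, 1), (2, 1), (3, 1), (4, 1), (6, 1), (7, 1), (8, 1), (10, 1), (11, 1), (13, 1)]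

/-- The generators. -/
def sel : List ℕ := [1, 2, 3, 4, 8]

end CfsgLib.CosetEnum.Fi23E
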