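/-
Certificate data of a coset enumeration.
-/
import Cfsg.Agent.Lib.CosetEnum.Fi23E.Data

set_option autoImplicit false
set_option maxRecDepth 1000000

namespace CfsgLib.CosetEnum.Fi23E

open CfsgLib.CosetEnum

/-- Justifications of the facts from 0. -/
def just0 : List ℕ := [0x0, 0x1, 0x2, 0x3, 0xfff, 0x40000400200100000001017, 0x100004000040020010000000101a, 0x300004000040020010000000101d, 0xfff, 0x5000080000800200100001001015, 0x4000020000400008000080040010000100100f, 0xfff, 0x800006000080000b0000b0040010000200100a, 0xa0000b0000b0020010000200100c, 0xfff, 0x90000e0000e00200100002001016, 0x800007000080000e0000e0040010000200101b, 0xa0000e0000e00200100002001011, 0xfff, 0xb000090000b000120001200400100003001005, 0xc000120001200200100003001006, 0xd000120001200200100003001008, 0xfff, 0xb0000e0001600200100003001019, 0xd000160001600200100003001011, 0xfff, 0x12000160001900200100005001016, 0x13000190001900200100005001019, 0x15000190001900200100005001011, 0xfff, 0x1700010000170001d0001d00400100006001018, 0x160000c000160001d0001d0040010000600100e, 0xfff, 0x1a0001d0002000200100007001015, 0x19000140001900020000200040010000700100e, 0xfff, 0x1e00023000230020010000800101a, 0x1d000180001d00023000230040010000800101c,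 0x1f00023000230020010000800101d, 0xfff, 0x210001e00021000270002700400100009001014, 0x200001b0002000027000270040010000900100a, 0x2200027000270020010000900100b, 0xfff, 0x21000230002b00200100009001017, 0x200001c000200002b0002b0040010000900101c, 0x220002b0002b0020010000900101d, 0xfff, 0x280002f0002f0020010000b001017, 0x270002b0002f0020010000b00101a, 0x2a0002f0002f0020010000b00101d, 0xfff, 0x3000033000330020010000d001015, 0x310002d0003100033000330040010000d001018, 0x2f000290002f00033000330040010000d00100f, 0xfff, 0x3400037000370020010000e001016, 0x3500037000370020010000e001019, 0x33000320003300037000370040010000e00101b, 0x3600037000370020010000e001011]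

theorem just0_ok : data.okChunk 0 just0 = true := by decide +kernel

theorem just0_len : just0.length = 60 := by decide +kernel

end CfsgLib.CosetEnum.Fi23E
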