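/-
Certificate data of a coset enumeration.
-/
import Cfsg.Agent.Lib.CosetEnum.Fi23E.Data

set_option autoImplicit false
set_option maxRecDepth 1000000

namespace CfsgLib.CosetEnum.Fi23E

open CfsgLib.CosetEnum

/-- Completion of the rows from 0. -/
def rows0 : List (List ℕ) := [[0x1, 0x1001, 0x2001, 0x3001, 0x4001], [0x5001, 0x6001, 0x8001, 0x7001, 0x4001], [0x9001, 0xb001, 0x8001, 0xe001, 0xa001], [0x12001, 0xb001, 0xc001, 0x16001, 0xd001], [0xf001, 0x17001, 0x10001, 0xe001, 0x11001], [0x12001, 0x13001, 0x14001, 0x19001, 0x15001], [0x1a001, 0x17001, 0x1d001, 0x16001, 0x18001], [0x1a001, 0x1b001, 0x20001, 0x19001, 0x1c001], [0x21001, 0x1e001, 0x1d001, 0x1f001, 0x23001], [0x21001, 0x27001, 0x20001, 0x22001, 0x2b001], [0x2c001, 0x24001, 0x25001, 0x26001, 0x23001], [0x28001, 0x27001, 0x29001, 0x2a001, 0x2f001], [0x2c001, 0x31001, 0x2d001, 0x2e001, 0x2b001], [0x30001, 0x31001, 0x33001, 0x32001, 0x2f001], [0x34001, 0x35001, 0x33001, 0x37001, 0x36001], [0x38001,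 0x39001, 0x3a001, 0x37001, 0x3b001]]

theorem rows0_ok : okRows data table 60 0 rows0 = true := by decide +kernel

theorem rows0_len : rows0.length = 16 := by decide +kernel

end CfsgLib.CosetEnum.Fi23E
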